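import Cfsg.Agent.Lib.TC.Enc

namespace Cfsg.Agent.Lib.TC.D.Fi22Chain.S3_T0

open Cfsg.Agent.Lib.TC.Enc

set_option maxRecDepth 100000

/-- A part of a table. -/
noncomputable def tree : Tr Nat :=
  (Tr.node (Tr.leaf (nat_lit 0xac00002883315c0458c23570f3d68c3d6483d622c0000a246e550ab5140e54390602ce531ce52aa00002883292c0417513d6c1ad3cc353483531a80000a200f563ec4908a4534c4828c4718c46a80000288320fc0394112d0cf35381250882d01200000a200d4a36a3d00c440683a24a3c14a3ba60000288318cd224e1124dcf24d8c2d0409cd4980000a200b3e2a8312683000a390462e1082fa50000288314a121cb111cacf1ca8c1ca4824d2100000a2009320a42240626386250082d0252483000028801c9c28c7501480e147cb14787188c0c0000a21e41b006211641a124190e41802317220000288b8c540147098c5088c4c1084801059040000a23a2103620f3220e0610c003111420d60000028908428f8424200180082ca04206041c000000a25200450003001054e0024c0014a000))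
 (Tr.leaf (nat_lit 0x2e40000a20d99c49aa145aa03da9f31a9e21a9d98000028806a6c2e25906668e6664b66607665cdc0000a22f8940199527893238920579011891550000288ede38dde34cde301d6240623c0da2d4c0000a23b687376863368507383256841578a1300002887d6046d600251fc05e203d5f40cdf0480000a21f47a1b4791757e134780f47703276310000288bcdd0acdcc249c805a08145c0055ecc00000a22f26e2b26d273712326c0506b014758f00002891c5a42bd90241a0e459804dbc74596340000a2470620ad5e4116706e610126a1d05f)))

end Cfsg.Agent.Lib.TC.D.Fi22Chain.S3_T0
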