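import Cfsg.Agent.Lib.TC.Enc

namespace Cfsg.Agent.Lib.TC.D.Fi22Chain.S4_T0

open Cfsg.Agent.Lib.TC.Enc

set_option maxRecDepth 100000

/-- A part of a table. -/
noncomputable def tree : Tr Nat :=
  (Tr.leaf (nat_lit 0x9000032162d66715e704e6f366e6e00032026c11e8562b462a2e292c0003249e6022739e509a31de4480003259a151a00d1d01e2055f4600032595b515a0cd83d59259e060003231162915019c191404d3240003248d140d00157088f01126200032608d104a548c00ce2c8b8000032140500895c484c47344600000320044740370026c016800))

end Cfsg.Agent.Lib.TC.D.Fi22Chain.S4_T0
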