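import Cfsg.Agent.Lib.TC.Enc

namespace Cfsg.Agent.Lib.TC.D.Fi22Chain.S5_T0

open Cfsg.Agent.Lib.TC.Enc

set_option maxRecDepth 100000

/-- A part of a table. -/
noncomputable def tree : Tr Nat :=
  (Tr.leaf (nat_lit 0xc000204bbe7778aee859c2a000206b34b6644ac01db660002021a634580cba9546400020211f0555c88a910440002002a4322d866a0cc2200020021c032842418890000020488c711404384040000020980520062000043))

end Cfsg.Agent.Lib.TC.D.Fi22Chain.S5_T0
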